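import Mathlib

/-! helper7: flat locally quasi-finite morphisms locally of finite type preserve local finiteness
of the family of irreducible components (generic points go to generic points). -/

set_option linter.style.haveILetI false
set_option linter.unusedVariables false
set_option linter.unusedSectionVars false
set_option autoImplicit false

open CategoryTheory CategoryTheory.Limits AlgebraicGeometry TopologicalSpace

namespace Groth.Agent.Helper7.IrrLF

universe u

/-- A generalizing continuous map sends generic points of irreducible components to generic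
points of irreducible components. -/
theorem map_mem_genericPoints {X Y : Type*} [TopologicalSpace X] [TopologicalSpace Y]
    [QuasiSober Y] [T0Space X] (f : X → Y) (hf : GeneralizingMap f) (ξ : X)
    (hξ : ξ ∈ genericPoints X) : f ξ ∈ genericPoints Y := by
  let Z : irreducibleComponents Y :=
    ⟨irreducibleComponent (f ξ), irreducibleComponent_mem_irreducibleComponents (f ξ)⟩
  let ζ := genericPoints.ofComponent Z
  have hζ : IsGenericPoint ζ.1 Z.1 := genericPoints.isGenericPoint_ofComponent Z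
  have hsp : ζ.1 ⤳ f ξ := hζ.specializes mem_irreducibleComponent
  obtain ⟨ξ', hξ'ξ, hfξ'⟩ := hf hsp
  have h1 : closure {ξ} ≤ closure {ξ'} := by
    apply closure_minimal _ isClosed_closure
    rintro _ rfl
    exact hξ'ξ.mem_closure
  have h2 : closure {ξ'} ≤ closure {ξ} := by
    have hmax : Maximal IsIrreducible (closure {ξ}) := hξ
    exact hmax.2 isIrreducible_singleton.closure h1
  have h3 : ξ' = ξ :=
    IsGenericPoint.eq (S := closure {ξ}) (le_antisymm h2 h1) rfl
  rw [← h3, hfξ']
  exact ζ.2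

/-- S5049. -/
theorem locallyFinite_irreducibleComponents {X Y : Scheme.{u}} (f : X ⟶ Y)
    [Flat f] [LocallyOfFiniteType f] [LocallyQuasiFinite f]
    (hY : LocallyFinite (fun Z : ↥(irreducibleComponents ↥Y) => (Z : Set ↥Y))) :
    LocallyFinite (fun Z : ↥(irreducibleComponents ↥X) => (Z : Set ↥X)) := by
  classical
  intro x
  obtain ⟨t, ht, hfin⟩ := hY (f x)
  obtain ⟨t', ht't, ht'o, hfxt'⟩ := mem_nhds_iff.mp ht
  obtain ⟨_, ⟨V, hV, rfl⟩, hfxV, hVt⟩ :=
    (Y.isBasis_affineOpens).exists_subset_of_mem_open hfxt' ht'o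
  obtain ⟨_, ⟨W, hW, rfl⟩, hxW, hWV⟩ := (X.isBasis_affineOpens).exists_subset_of_mem_open
    (show x ∈ f ⁻¹ᵁ V from hfxV) (f ⁻¹ᵁ V).isOpen
  have e : W ≤ f ⁻¹ᵁ V := hWV
  refine ⟨W, W.isOpen.mem_nhds hxW, ?_⟩
  -- finitely many generic points of `Y` in `V`
  let G : Set Y := {ζ | ζ ∈ genericPoints Y ∧ ζ ∈ V}
  have hGfin : G.Finite := by
    refine (hfin.image (fun Z => (genericPoints.ofComponent Z).1)).subset ?_
    rintro ζ ⟨hζ, hζV⟩
    refine ⟨genericPoints.component ⟨ζ, hζ⟩, ⟨ζ, subset_closure rfl, ht't (hVt hζV)⟩, ?_⟩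
    change (genericPoints.ofComponent (genericPoints.component ⟨ζ, hζ⟩)).1 = ζ
    rw [genericPoints.ofComponent_component]
  -- fibres of `W → V` are finite
  haveI : IsAffine (W : Scheme.{u}) := hW
  haveI : IsAffine (V : Scheme.{u}) := hV
  let g : (W : Scheme.{u}) ⟶ (V : Scheme.{u}) := f.resLE V W e
  have hHfin : {ξ : X | ξ ∈ W ∧ f ξ ∈ G}.Finite := by
    have h1 : {ξ : X | ξ ∈ W ∧ f ξ ∈ G} ⊆
        ⋃ ζ ∈ G, {ξ : X | ξ ∈ W ∧ f ξ = ζ} := by
      rintro ξ ⟨hξW, hξG⟩
      exact Set.mem_biUnion hξG ⟨hξW, rfl⟩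
    refine (Set.Finite.biUnion hGfin fun ζ hζ => ?_).subset h1
    have h2 := Scheme.Hom.finite_preimage_singleton g ⟨ζ, hζ.2⟩
    refine (h2.image (fun w : W => (w : X))).subset ?_
    rintro ξ ⟨hξW, hξζ⟩
    refine ⟨⟨ξ, hξW⟩, ?_, rfl⟩
    change g ⟨ξ, hξW⟩ = ⟨ζ, hζ.2⟩
    have h3 : (Scheme.Opens.ι V) (g ⟨ξ, hξW⟩) = f ((Scheme.Opens.ι W) ⟨ξ, hξW⟩) := by
      rw [← Scheme.Hom.comp_apply, ← Scheme.Hom.comp_apply, Scheme.Hom.resLE_comp_ι f e]
    apply Subtype.ext
    exact h3.trans hξζ
  -- the generic point of a component meeting `W`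
  refine Set.Finite.of_injOn (f := fun C => (genericPoints.ofComponent C).1)
    (t := {ξ : X | ξ ∈ W ∧ f ξ ∈ G}) ?_ ?_ hHfin
  · rintro C ⟨c, hcC, hcW⟩
    have hgen : IsGenericPoint (genericPoints.ofComponent C).1 C.1 :=
      genericPoints.isGenericPoint_ofComponent C
    have hξW : (genericPoints.ofComponent C).1 ∈ W :=
      (hgen.mem_open_set_iff W.isOpen).mpr ⟨c, hcC, hcW⟩
    refine ⟨hξW, ?_, e hξW⟩
    exact map_mem_genericPoints f (Flat.generalizingMap f) _ (genericPoints.ofComponent C).2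
  · intro C _ C' _ hCC'
    have h5 : genericPoints.ofComponent C = genericPoints.ofComponent C' := Subtype.ext hCC'
    have h6 := congrArg genericPoints.component h5
    rwa [genericPoints.component_ofComponent, genericPoints.component_ofComponent] at h6

end Groth.Agent.Helper7.IrrLF
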